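import Cfsg.Agent.Lib.H6.ONTC.Steps10

set_option autoImplicit false
set_option maxRecDepth 1000000

/-! # invariant through part 10 of ON (generated) -/

namespace Cfsg.Agent.Lib.H6.ONTC

open Cfsg.Agent.Lib.H17.CosetCert Cfsg.Agent.Lib.H6.TC

theorem part10 {G Q : Type} [Group G] [MulAction G Q] (γ : ℕ → G)
    (hiv : ∀ x < 8, γ (iv x) = (γ x)⁻¹) (q0 : Q) (hw : WordsOK γ q0 words)
    (h0 : Inv F 8 γ q0 250000 93925) : Inv F 8 γ q0 275000 102580 := by
  have h1 := checkSteps_sound F iv 8 1048576 γ hiv q0 words hw steps250 250000 93925 94121 h0 chk250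
  rw [len250] at h1
  have h2 := checkSteps_sound F iv 8 1048576 γ hiv q0 words hw steps251 251000 94121 94430 h1 chk251
  rw [len251] at h2
  have h3 := checkSteps_sound F iv 8 1048576 γ hiv q0 words hw steps252 252000 94430 94803 h2 chk252
  rw [len252] at h3
  have h4 := checkSteps_sound F iv 8 1048576 γ hiv q0 words hw steps253 253000 94803 95173 h3 chk253
  rw [len253] at h4
  have h5 := checkSteps_sound F iv 8 1048576 γ hiv q0 words hw steps254 254000 95173 95677 h4 chk254
  rw [len254] at h5
  have h6 := checkSteps_sound F iv 8 1048576 γ hiv q0 words hw steps255 255000 95677 95995 h5 chk255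
  rw [len255] at h6
  have h7 := checkSteps_sound F iv 8 1048576 γ hiv q0 words hw steps256 256000 95995 96332 h6 chk256
  rw [len256] at h7
  have h8 := checkSteps_sound F iv 8 1048576 γ hiv q0 words hw steps257 257000 96332 96627 h7 chk257
  rw [len257] at h8
  have h9 := checkSteps_sound F iv 8 1048576 γ hiv q0 words hw steps258 258000 96627 96994 h8 chk258
  rw [len258] at h9
  have h10 := checkSteps_sound F iv 8 1048576 γ hiv q0 words hw steps259 259000 96994 97322 h9 chk259
  rw [len259] at h10
  have h11 := checkSteps_sound F iv 8 1048576 γ hiv q0 words hw steps260 260000 97322 97630 h10 chk260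
  rw [len260] at h11
  have h12 := checkSteps_sound F iv 8 1048576 γ hiv q0 words hw steps261 261000 97630 98037 h11 chk261
  rw [len261] at h12
  have h13 := checkSteps_sound F iv 8 1048576 γ hiv q0 words hw steps262 262000 98037 98345 h12 chk262
  rw [len262] at h13
  have h14 := checkSteps_sound F iv 8 1048576 γ hiv q0 words hw steps263 263000 98345 98701 h13 chk263
  rw [len263] at h14
  have h15 := checkSteps_sound F iv 8 1048576 γ hiv q0 words hw steps264 264000 98701 99037 h14 chk264
  rw [len264] at h15
  have h16 := checkSteps_sound F iv 8 1048576 γ hiv q0 words hw steps265 265000 99037 99527 h15 chk265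
  rw [len265] at h16
  have h17 := checkSteps_sound F iv 8 1048576 γ hiv q0 words hw steps266 266000 99527 99842 h16 chk266
  rw [len266] at h17
  have h18 := checkSteps_sound F iv 8 1048576 γ hiv q0 words hw steps267 267000 99842 100118 h17 chk267
  rw [len267] at h18
  have h19 := checkSteps_sound F iv 8 1048576 γ hiv q0 words hw steps268 268000 100118 100467 h18 chk268
  rw [len268] at h19
  have h20 := checkSteps_sound F iv 8 1048576 γ hiv q0 words hw steps269 269000 100467 100948 h19 chk269
  rw [len269] at h20
  have h21 := checkSteps_sound F iv 8 1048576 γ hiv q0 words hw steps270 270000 100948 101359 h20 chk270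
  rw [len270] at h21
  have h22 := checkSteps_sound F iv 8 1048576 γ hiv q0 words hw steps271 271000 101359 101712 h21 chk271
  rw [len271] at h22
  have h23 := checkSteps_sound F iv 8 1048576 γ hiv q0 words hw steps272 272000 101712 102026 h22 chk272
  rw [len272] at h23
  have h24 := checkSteps_sound F iv 8 1048576 γ hiv q0 words hw steps273 273000 102026 102337 h23 chk273
  rw [len273] at h24
  have h25 := checkSteps_sound F iv 8 1048576 γ hiv q0 words hw steps274 274000 102337 102580 h24 chk274
  rw [len274] at h25
  exact h25

end Cfsg.Agent.Lib.H6.ONTC
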