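import Cfsg.Agent.Lib.H6.ONTC.Steps11

set_option autoImplicit false
set_option maxRecDepth 1000000

/-! # invariant through part 11 of ON (generated) -/

namespace Cfsg.Agent.Lib.H6.ONTC

open Cfsg.Agent.Lib.H17.CosetCert Cfsg.Agent.Lib.H6.TC

theorem part11 {G Q : Type} [Group G] [MulAction G Q] (γ : ℕ → G)
    (hiv : ∀ x < 8, γ (iv x) = (γ x)⁻¹) (q0 : Q) (hw : WordsOK γ q0 words)
    (h0 : Inv F 8 γ q0 275000 102580) : Inv F 8 γ q0 300000 110094 := by
  have h1 := checkSteps_sound F iv 8 1048576 γ hiv q0 words hw steps275 275000 102580 102877 h0 chk275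
  rw [len275] at h1
  have h2 := checkSteps_sound F iv 8 1048576 γ hiv q0 words hw steps276 276000 102877 103248 h1 chk276
  rw [len276] at h2
  have h3 := checkSteps_sound F iv 8 1048576 γ hiv q0 words hw steps277 277000 103248 103447 h2 chk277
  rw [len277] at h3
  have h4 := checkSteps_sound F iv 8 1048576 γ hiv q0 words hw steps278 278000 103447 103755 h3 chk278
  rw [len278] at h4
  have h5 := checkSteps_sound F iv 8 1048576 γ hiv q0 words hw steps279 279000 103755 104092 h4 chk279
  rw [len279] at h5
  have h6 := checkSteps_sound F iv 8 1048576 γ hiv q0 words hw steps280 280000 104092 104420 h5 chk280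
  rw [len280] at h6
  have h7 := checkSteps_sound F iv 8 1048576 γ hiv q0 words hw steps281 281000 104420 104685 h6 chk281
  rw [len281] at h7
  have h8 := checkSteps_sound F iv 8 1048576 γ hiv q0 words hw steps282 282000 104685 104945 h7 chk282
  rw [len282] at h8
  have h9 := checkSteps_sound F iv 8 1048576 γ hiv q0 words hw steps283 283000 104945 105260 h8 chk283
  rw [len283] at h9
  have h10 := checkSteps_sound F iv 8 1048576 γ hiv q0 words hw steps284 284000 105260 105357 h9 chk284
  rw [len284] at h10
  have h11 := checkSteps_sound F iv 8 1048576 γ hiv q0 words hw steps285 285000 105357 105357 h10 chk285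
  rw [len285] at h11
  have h12 := checkSteps_sound F iv 8 1048576 γ hiv q0 words hw steps286 286000 105357 105551 h11 chk286
  rw [len286] at h12
  have h13 := checkSteps_sound F iv 8 1048576 γ hiv q0 words hw steps287 287000 105551 105855 h12 chk287
  rw [len287] at h13
  have h14 := checkSteps_sound F iv 8 1048576 γ hiv q0 words hw steps288 288000 105855 106243 h13 chk288
  rw [len288] at h14
  have h15 := checkSteps_sound F iv 8 1048576 γ hiv q0 words hw steps289 289000 106243 106622 h14 chk289
  rw [len289] at h15
  have h16 := checkSteps_sound F iv 8 1048576 γ hiv q0 words hw steps290 290000 106622 106886 h15 chk290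
  rw [len290] at h16
  have h17 := checkSteps_sound F iv 8 1048576 γ hiv q0 words hw steps291 291000 106886 107231 h16 chk291
  rw [len291] at h17
  have h18 := checkSteps_sound F iv 8 1048576 γ hiv q0 words hw steps292 292000 107231 107658 h17 chk292
  rw [len292] at h18
  have h19 := checkSteps_sound F iv 8 1048576 γ hiv q0 words hw steps293 293000 107658 108165 h18 chk293
  rw [len293] at h19
  have h20 := checkSteps_sound F iv 8 1048576 γ hiv q0 words hw steps294 294000 108165 108601 h19 chk294
  rw [len294] at h20
  have h21 := checkSteps_sound F iv 8 1048576 γ hiv q0 words hw steps295 295000 108601 108712 h20 chk295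
  rw [len295] at h21
  have h22 := checkSteps_sound F iv 8 1048576 γ hiv q0 words hw steps296 296000 108712 108999 h21 chk296
  rw [len296] at h22
  have h23 := checkSteps_sound F iv 8 1048576 γ hiv q0 words hw steps297 297000 108999 109345 h22 chk297
  rw [len297] at h23
  have h24 := checkSteps_sound F iv 8 1048576 γ hiv q0 words hw steps298 298000 109345 109730 h23 chk298
  rw [len298] at h24
  have h25 := checkSteps_sound F iv 8 1048576 γ hiv q0 words hw steps299 299000 109730 110094 h24 chk299
  rw [len299] at h25
  exact h25

end Cfsg.Agent.Lib.H6.ONTC
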