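import Cfsg.Agent.Lib.H6.ONTC.Steps13

set_option autoImplicit false
set_option maxRecDepth 1000000

/-! # invariant through part 13 of ON (generated) -/

namespace Cfsg.Agent.Lib.H6.ONTC

open Cfsg.Agent.Lib.H17.CosetCert Cfsg.Agent.Lib.H6.TC

theorem part13 {G Q : Type} [Group G] [MulAction G Q] (γ : ℕ → G)
    (hiv : ∀ x < 8, γ (iv x) = (γ x)⁻¹) (q0 : Q) (hw : WordsOK γ q0 words)
    (h0 : Inv F 8 γ q0 325000 119491) : Inv F 8 γ q0 350000 130062 := by
  have h1 := checkSteps_sound F iv 8 1048576 γ hiv q0 words hw steps325 325000 119491 119993 h0 chk325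
  rw [len325] at h1
  have h2 := checkSteps_sound F iv 8 1048576 γ hiv q0 words hw steps326 326000 119993 120479 h1 chk326
  rw [len326] at h2
  have h3 := checkSteps_sound F iv 8 1048576 γ hiv q0 words hw steps327 327000 120479 120927 h2 chk327
  rw [len327] at h3
  have h4 := checkSteps_sound F iv 8 1048576 γ hiv q0 words hw steps328 328000 120927 121420 h3 chk328
  rw [len328] at h4
  have h5 := checkSteps_sound F iv 8 1048576 γ hiv q0 words hw steps329 329000 121420 121852 h4 chk329
  rw [len329] at h5
  have h6 := checkSteps_sound F iv 8 1048576 γ hiv q0 words hw steps330 330000 121852 122379 h5 chk330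
  rw [len330] at h6
  have h7 := checkSteps_sound F iv 8 1048576 γ hiv q0 words hw steps331 331000 122379 122926 h6 chk331
  rw [len331] at h7
  have h8 := checkSteps_sound F iv 8 1048576 γ hiv q0 words hw steps332 332000 122926 123426 h7 chk332
  rw [len332] at h8
  have h9 := checkSteps_sound F iv 8 1048576 γ hiv q0 words hw steps333 333000 123426 123906 h8 chk333
  rw [len333] at h9
  have h10 := checkSteps_sound F iv 8 1048576 γ hiv q0 words hw steps334 334000 123906 124422 h9 chk334
  rw [len334] at h10
  have h11 := checkSteps_sound F iv 8 1048576 γ hiv q0 words hw steps335 335000 124422 124968 h10 chk335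
  rw [len335] at h11
  have h12 := checkSteps_sound F iv 8 1048576 γ hiv q0 words hw steps336 336000 124968 125432 h11 chk336
  rw [len336] at h12
  have h13 := checkSteps_sound F iv 8 1048576 γ hiv q0 words hw steps337 337000 125432 125823 h12 chk337
  rw [len337] at h13
  have h14 := checkSteps_sound F iv 8 1048576 γ hiv q0 words hw steps338 338000 125823 126314 h13 chk338
  rw [len338] at h14
  have h15 := checkSteps_sound F iv 8 1048576 γ hiv q0 words hw steps339 339000 126314 126744 h14 chk339
  rw [len339] at h15
  have h16 := checkSteps_sound F iv 8 1048576 γ hiv q0 words hw steps340 340000 126744 127168 h15 chk340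
  rw [len340] at h16
  have h17 := checkSteps_sound F iv 8 1048576 γ hiv q0 words hw steps341 341000 127168 127593 h16 chk341
  rw [len341] at h17
  have h18 := checkSteps_sound F iv 8 1048576 γ hiv q0 words hw steps342 342000 127593 128035 h17 chk342
  rw [len342] at h18
  have h19 := checkSteps_sound F iv 8 1048576 γ hiv q0 words hw steps343 343000 128035 128491 h18 chk343
  rw [len343] at h19
  have h20 := checkSteps_sound F iv 8 1048576 γ hiv q0 words hw steps344 344000 128491 128620 h19 chk344
  rw [len344] at h20
  have h21 := checkSteps_sound F iv 8 1048576 γ hiv q0 words hw steps345 345000 128620 128794 h20 chk345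
  rw [len345] at h21
  have h22 := checkSteps_sound F iv 8 1048576 γ hiv q0 words hw steps346 346000 128794 129036 h21 chk346
  rw [len346] at h22
  have h23 := checkSteps_sound F iv 8 1048576 γ hiv q0 words hw steps347 347000 129036 129410 h22 chk347
  rw [len347] at h23
  have h24 := checkSteps_sound F iv 8 1048576 γ hiv q0 words hw steps348 348000 129410 129751 h23 chk348
  rw [len348] at h24
  have h25 := checkSteps_sound F iv 8 1048576 γ hiv q0 words hw steps349 349000 129751 130062 h24 chk349
  rw [len349] at h25
  exact h25

end Cfsg.Agent.Lib.H6.ONTC
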