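import Cfsg.Agent.Lib.H6.ONTC.Steps15

set_option autoImplicit false
set_option maxRecDepth 1000000

/-! # invariant through part 15 of ON (generated) -/

namespace Cfsg.Agent.Lib.H6.ONTC

open Cfsg.Agent.Lib.H17.CosetCert Cfsg.Agent.Lib.H6.TC

theorem part15 {G Q : Type} [Group G] [MulAction G Q] (γ : ℕ → G)
    (hiv : ∀ x < 8, γ (iv x) = (γ x)⁻¹) (q0 : Q) (hw : WordsOK γ q0 words)
    (h0 : Inv F 8 γ q0 375000 139384) : Inv F 8 γ q0 400000 149899 := by
  have h1 := checkSteps_sound F iv 8 1048576 γ hiv q0 words hw steps375 375000 139384 139691 h0 chk375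
  rw [len375] at h1
  have h2 := checkSteps_sound F iv 8 1048576 γ hiv q0 words hw steps376 376000 139691 140003 h1 chk376
  rw [len376] at h2
  have h3 := checkSteps_sound F iv 8 1048576 γ hiv q0 words hw steps377 377000 140003 140471 h2 chk377
  rw [len377] at h3
  have h4 := checkSteps_sound F iv 8 1048576 γ hiv q0 words hw steps378 378000 140471 140944 h3 chk378
  rw [len378] at h4
  have h5 := checkSteps_sound F iv 8 1048576 γ hiv q0 words hw steps379 379000 140944 141387 h4 chk379
  rw [len379] at h5
  have h6 := checkSteps_sound F iv 8 1048576 γ hiv q0 words hw steps380 380000 141387 141766 h5 chk380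
  rw [len380] at h6
  have h7 := checkSteps_sound F iv 8 1048576 γ hiv q0 words hw steps381 381000 141766 142090 h6 chk381
  rw [len381] at h7
  have h8 := checkSteps_sound F iv 8 1048576 γ hiv q0 words hw steps382 382000 142090 142541 h7 chk382
  rw [len382] at h8
  have h9 := checkSteps_sound F iv 8 1048576 γ hiv q0 words hw steps383 383000 142541 143022 h8 chk383
  rw [len383] at h9
  have h10 := checkSteps_sound F iv 8 1048576 γ hiv q0 words hw steps384 384000 143022 143496 h9 chk384
  rw [len384] at h10
  have h11 := checkSteps_sound F iv 8 1048576 γ hiv q0 words hw steps385 385000 143496 143914 h10 chk385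
  rw [len385] at h11
  have h12 := checkSteps_sound F iv 8 1048576 γ hiv q0 words hw steps386 386000 143914 144316 h11 chk386
  rw [len386] at h12
  have h13 := checkSteps_sound F iv 8 1048576 γ hiv q0 words hw steps387 387000 144316 144778 h12 chk387
  rw [len387] at h13
  have h14 := checkSteps_sound F iv 8 1048576 γ hiv q0 words hw steps388 388000 144778 145170 h13 chk388
  rw [len388] at h14
  have h15 := checkSteps_sound F iv 8 1048576 γ hiv q0 words hw steps389 389000 145170 145501 h14 chk389
  rw [len389] at h15
  have h16 := checkSteps_sound F iv 8 1048576 γ hiv q0 words hw steps390 390000 145501 145954 h15 chk390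
  rw [len390] at h16
  have h17 := checkSteps_sound F iv 8 1048576 γ hiv q0 words hw steps391 391000 145954 146426 h16 chk391
  rw [len391] at h17
  have h18 := checkSteps_sound F iv 8 1048576 γ hiv q0 words hw steps392 392000 146426 146899 h17 chk392
  rw [len392] at h18
  have h19 := checkSteps_sound F iv 8 1048576 γ hiv q0 words hw steps393 393000 146899 147402 h18 chk393
  rw [len393] at h19
  have h20 := checkSteps_sound F iv 8 1048576 γ hiv q0 words hw steps394 394000 147402 147786 h19 chk394
  rw [len394] at h20
  have h21 := checkSteps_sound F iv 8 1048576 γ hiv q0 words hw steps395 395000 147786 148243 h20 chk395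
  rw [len395] at h21
  have h22 := checkSteps_sound F iv 8 1048576 γ hiv q0 words hw steps396 396000 148243 148636 h21 chk396
  rw [len396] at h22
  have h23 := checkSteps_sound F iv 8 1048576 γ hiv q0 words hw steps397 397000 148636 149046 h22 chk397
  rw [len397] at h23
  have h24 := checkSteps_sound F iv 8 1048576 γ hiv q0 words hw steps398 398000 149046 149480 h23 chk398
  rw [len398] at h24
  have h25 := checkSteps_sound F iv 8 1048576 γ hiv q0 words hw steps399 399000 149480 149899 h24 chk399
  rw [len399] at h25
  exact h25

end Cfsg.Agent.Lib.H6.ONTC
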