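import Cfsg.Agent.Lib.H6.ONTC.Steps16

set_option autoImplicit false
set_option maxRecDepth 1000000

/-! # invariant through part 16 of ON (generated) -/

namespace Cfsg.Agent.Lib.H6.ONTC

open Cfsg.Agent.Lib.H17.CosetCert Cfsg.Agent.Lib.H6.TC

theorem part16 {G Q : Type} [Group G] [MulAction G Q] (γ : ℕ → G)
    (hiv : ∀ x < 8, γ (iv x) = (γ x)⁻¹) (q0 : Q) (hw : WordsOK γ q0 words)
    (h0 : Inv F 8 γ q0 400000 149899) : Inv F 8 γ q0 425000 152403 := by
  have h1 := checkSteps_sound F iv 8 1048576 γ hiv q0 words hw steps400 400000 149899 150386 h0 chk400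
  rw [len400] at h1
  have h2 := checkSteps_sound F iv 8 1048576 γ hiv q0 words hw steps401 401000 150386 150795 h1 chk401
  rw [len401] at h2
  have h3 := checkSteps_sound F iv 8 1048576 γ hiv q0 words hw steps402 402000 150795 151123 h2 chk402
  rw [len402] at h3
  have h4 := checkSteps_sound F iv 8 1048576 γ hiv q0 words hw steps403 403000 151123 151600 h3 chk403
  rw [len403] at h4
  have h5 := checkSteps_sound F iv 8 1048576 γ hiv q0 words hw steps404 404000 151600 151966 h4 chk404
  rw [len404] at h5
  have h6 := checkSteps_sound F iv 8 1048576 γ hiv q0 words hw steps405 405000 151966 152353 h5 chk405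
  rw [len405] at h6
  have h7 := checkSteps_sound F iv 8 1048576 γ hiv q0 words hw steps406 406000 152353 152403 h6 chk406
  rw [len406] at h7
  have h8 := checkSteps_sound F iv 8 1048576 γ hiv q0 words hw steps407 407000 152403 152403 h7 chk407
  rw [len407] at h8
  have h9 := checkSteps_sound F iv 8 1048576 γ hiv q0 words hw steps408 408000 152403 152403 h8 chk408
  rw [len408] at h9
  have h10 := checkSteps_sound F iv 8 1048576 γ hiv q0 words hw steps409 409000 152403 152403 h9 chk409
  rw [len409] at h10
  have h11 := checkSteps_sound F iv 8 1048576 γ hiv q0 words hw steps410 410000 152403 152403 h10 chk410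
  rw [len410] at h11
  have h12 := checkSteps_sound F iv 8 1048576 γ hiv q0 words hw steps411 411000 152403 152403 h11 chk411
  rw [len411] at h12
  have h13 := checkSteps_sound F iv 8 1048576 γ hiv q0 words hw steps412 412000 152403 152403 h12 chk412
  rw [len412] at h13
  have h14 := checkSteps_sound F iv 8 1048576 γ hiv q0 words hw steps413 413000 152403 152403 h13 chk413
  rw [len413] at h14
  have h15 := checkSteps_sound F iv 8 1048576 γ hiv q0 words hw steps414 414000 152403 152403 h14 chk414
  rw [len414] at h15
  have h16 := checkSteps_sound F iv 8 1048576 γ hiv q0 words hw steps415 415000 152403 152403 h15 chk415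
  rw [len415] at h16
  have h17 := checkSteps_sound F iv 8 1048576 γ hiv q0 words hw steps416 416000 152403 152403 h16 chk416
  rw [len416] at h17
  have h18 := checkSteps_sound F iv 8 1048576 γ hiv q0 words hw steps417 417000 152403 152403 h17 chk417
  rw [len417] at h18
  have h19 := checkSteps_sound F iv 8 1048576 γ hiv q0 words hw steps418 418000 152403 152403 h18 chk418
  rw [len418] at h19
  have h20 := checkSteps_sound F iv 8 1048576 γ hiv q0 words hw steps419 419000 152403 152403 h19 chk419
  rw [len419] at h20
  have h21 := checkSteps_sound F iv 8 1048576 γ hiv q0 words hw steps420 420000 152403 152403 h20 chk420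
  rw [len420] at h21
  have h22 := checkSteps_sound F iv 8 1048576 γ hiv q0 words hw steps421 421000 152403 152403 h21 chk421
  rw [len421] at h22
  have h23 := checkSteps_sound F iv 8 1048576 γ hiv q0 words hw steps422 422000 152403 152403 h22 chk422
  rw [len422] at h23
  have h24 := checkSteps_sound F iv 8 1048576 γ hiv q0 words hw steps423 423000 152403 152403 h23 chk423
  rw [len423] at h24
  have h25 := checkSteps_sound F iv 8 1048576 γ hiv q0 words hw steps424 424000 152403 152403 h24 chk424
  rw [len424] at h25
  exact h25

end Cfsg.Agent.Lib.H6.ONTC
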