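import Cfsg.Agent.Lib.H6.ONTC.Steps18

set_option autoImplicit false
set_option maxRecDepth 1000000

/-! # invariant through part 18 of ON (generated) -/

namespace Cfsg.Agent.Lib.H6.ONTC

open Cfsg.Agent.Lib.H17.CosetCert Cfsg.Agent.Lib.H6.TC

theorem part18 {G Q : Type} [Group G] [MulAction G Q] (γ : ℕ → G)
    (hiv : ∀ x < 8, γ (iv x) = (γ x)⁻¹) (q0 : Q) (hw : WordsOK γ q0 words)
    (h0 : Inv F 8 γ q0 450000 152403) : Inv F 8 γ q0 475000 152403 := by
  have h1 := checkSteps_sound F iv 8 1048576 γ hiv q0 words hw steps450 450000 152403 152403 h0 chk450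
  rw [len450] at h1
  have h2 := checkSteps_sound F iv 8 1048576 γ hiv q0 words hw steps451 451000 152403 152403 h1 chk451
  rw [len451] at h2
  have h3 := checkSteps_sound F iv 8 1048576 γ hiv q0 words hw steps452 452000 152403 152403 h2 chk452
  rw [len452] at h3
  have h4 := checkSteps_sound F iv 8 1048576 γ hiv q0 words hw steps453 453000 152403 152403 h3 chk453
  rw [len453] at h4
  have h5 := checkSteps_sound F iv 8 1048576 γ hiv q0 words hw steps454 454000 152403 152403 h4 chk454
  rw [len454] at h5
  have h6 := checkSteps_sound F iv 8 1048576 γ hiv q0 words hw steps455 455000 152403 152403 h5 chk455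
  rw [len455] at h6
  have h7 := checkSteps_sound F iv 8 1048576 γ hiv q0 words hw steps456 456000 152403 152403 h6 chk456
  rw [len456] at h7
  have h8 := checkSteps_sound F iv 8 1048576 γ hiv q0 words hw steps457 457000 152403 152403 h7 chk457
  rw [len457] at h8
  have h9 := checkSteps_sound F iv 8 1048576 γ hiv q0 words hw steps458 458000 152403 152403 h8 chk458
  rw [len458] at h9
  have h10 := checkSteps_sound F iv 8 1048576 γ hiv q0 words hw steps459 459000 152403 152403 h9 chk459
  rw [len459] at h10
  have h11 := checkSteps_sound F iv 8 1048576 γ hiv q0 words hw steps460 460000 152403 152403 h10 chk460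
  rw [len460] at h11
  have h12 := checkSteps_sound F iv 8 1048576 γ hiv q0 words hw steps461 461000 152403 152403 h11 chk461
  rw [len461] at h12
  have h13 := checkSteps_sound F iv 8 1048576 γ hiv q0 words hw steps462 462000 152403 152403 h12 chk462
  rw [len462] at h13
  have h14 := checkSteps_sound F iv 8 1048576 γ hiv q0 words hw steps463 463000 152403 152403 h13 chk463
  rw [len463] at h14
  have h15 := checkSteps_sound F iv 8 1048576 γ hiv q0 words hw steps464 464000 152403 152403 h14 chk464
  rw [len464] at h15
  have h16 := checkSteps_sound F iv 8 1048576 γ hiv q0 words hw steps465 465000 152403 152403 h15 chk465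
  rw [len465] at h16
  have h17 := checkSteps_sound F iv 8 1048576 γ hiv q0 words hw steps466 466000 152403 152403 h16 chk466
  rw [len466] at h17
  have h18 := checkSteps_sound F iv 8 1048576 γ hiv q0 words hw steps467 467000 152403 152403 h17 chk467
  rw [len467] at h18
  have h19 := checkSteps_sound F iv 8 1048576 γ hiv q0 words hw steps468 468000 152403 152403 h18 chk468
  rw [len468] at h19
  have h20 := checkSteps_sound F iv 8 1048576 γ hiv q0 words hw steps469 469000 152403 152403 h19 chk469
  rw [len469] at h20
  have h21 := checkSteps_sound F iv 8 1048576 γ hiv q0 words hw steps470 470000 152403 152403 h20 chk470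
  rw [len470] at h21
  have h22 := checkSteps_sound F iv 8 1048576 γ hiv q0 words hw steps471 471000 152403 152403 h21 chk471
  rw [len471] at h22
  have h23 := checkSteps_sound F iv 8 1048576 γ hiv q0 words hw steps472 472000 152403 152403 h22 chk472
  rw [len472] at h23
  have h24 := checkSteps_sound F iv 8 1048576 γ hiv q0 words hw steps473 473000 152403 152403 h23 chk473
  rw [len473] at h24
  have h25 := checkSteps_sound F iv 8 1048576 γ hiv q0 words hw steps474 474000 152403 152403 h24 chk474
  rw [len474] at h25
  exact h25

end Cfsg.Agent.Lib.H6.ONTC
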