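import Cfsg.Agent.Lib.H6.ONTC.Steps20

set_option autoImplicit false
set_option maxRecDepth 1000000

/-! # invariant through part 20 of ON (generated) -/

namespace Cfsg.Agent.Lib.H6.ONTC

open Cfsg.Agent.Lib.H17.CosetCert Cfsg.Agent.Lib.H6.TC

theorem part20 {G Q : Type} [Group G] [MulAction G Q] (γ : ℕ → G)
    (hiv : ∀ x < 8, γ (iv x) = (γ x)⁻¹) (q0 : Q) (hw : WordsOK γ q0 words)
    (h0 : Inv F 8 γ q0 500000 152403) : Inv F 8 γ q0 525000 152418 := by
  have h1 := checkSteps_sound F iv 8 1048576 γ hiv q0 words hw steps500 500000 152403 152403 h0 chk500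
  rw [len500] at h1
  have h2 := checkSteps_sound F iv 8 1048576 γ hiv q0 words hw steps501 501000 152403 152403 h1 chk501
  rw [len501] at h2
  have h3 := checkSteps_sound F iv 8 1048576 γ hiv q0 words hw steps502 502000 152403 152403 h2 chk502
  rw [len502] at h3
  have h4 := checkSteps_sound F iv 8 1048576 γ hiv q0 words hw steps503 503000 152403 152403 h3 chk503
  rw [len503] at h4
  have h5 := checkSteps_sound F iv 8 1048576 γ hiv q0 words hw steps504 504000 152403 152403 h4 chk504
  rw [len504] at h5
  have h6 := checkSteps_sound F iv 8 1048576 γ hiv q0 words hw steps505 505000 152403 152403 h5 chk505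
  rw [len505] at h6
  have h7 := checkSteps_sound F iv 8 1048576 γ hiv q0 words hw steps506 506000 152403 152403 h6 chk506
  rw [len506] at h7
  have h8 := checkSteps_sound F iv 8 1048576 γ hiv q0 words hw steps507 507000 152403 152403 h7 chk507
  rw [len507] at h8
  have h9 := checkSteps_sound F iv 8 1048576 γ hiv q0 words hw steps508 508000 152403 152403 h8 chk508
  rw [len508] at h9
  have h10 := checkSteps_sound F iv 8 1048576 γ hiv q0 words hw steps509 509000 152403 152403 h9 chk509
  rw [len509] at h10
  have h11 := checkSteps_sound F iv 8 1048576 γ hiv q0 words hw steps510 510000 152403 152403 h10 chk510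
  rw [len510] at h11
  have h12 := checkSteps_sound F iv 8 1048576 γ hiv q0 words hw steps511 511000 152403 152403 h11 chk511
  rw [len511] at h12
  have h13 := checkSteps_sound F iv 8 1048576 γ hiv q0 words hw steps512 512000 152403 152403 h12 chk512
  rw [len512] at h13
  have h14 := checkSteps_sound F iv 8 1048576 γ hiv q0 words hw steps513 513000 152403 152403 h13 chk513
  rw [len513] at h14
  have h15 := checkSteps_sound F iv 8 1048576 γ hiv q0 words hw steps514 514000 152403 152403 h14 chk514
  rw [len514] at h15
  have h16 := checkSteps_sound F iv 8 1048576 γ hiv q0 words hw steps515 515000 152403 152403 h15 chk515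
  rw [len515] at h16
  have h17 := checkSteps_sound F iv 8 1048576 γ hiv q0 words hw steps516 516000 152403 152403 h16 chk516
  rw [len516] at h17
  have h18 := checkSteps_sound F iv 8 1048576 γ hiv q0 words hw steps517 517000 152403 152403 h17 chk517
  rw [len517] at h18
  have h19 := checkSteps_sound F iv 8 1048576 γ hiv q0 words hw steps518 518000 152403 152403 h18 chk518
  rw [len518] at h19
  have h20 := checkSteps_sound F iv 8 1048576 γ hiv q0 words hw steps519 519000 152403 152403 h19 chk519
  rw [len519] at h20
  have h21 := checkSteps_sound F iv 8 1048576 γ hiv q0 words hw steps520 520000 152403 152403 h20 chk520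
  rw [len520] at h21
  have h22 := checkSteps_sound F iv 8 1048576 γ hiv q0 words hw steps521 521000 152403 152403 h21 chk521
  rw [len521] at h22
  have h23 := checkSteps_sound F iv 8 1048576 γ hiv q0 words hw steps522 522000 152403 152403 h22 chk522
  rw [len522] at h23
  have h24 := checkSteps_sound F iv 8 1048576 γ hiv q0 words hw steps523 523000 152403 152403 h23 chk523
  rw [len523] at h24
  have h25 := checkSteps_sound F iv 8 1048576 γ hiv q0 words hw steps524 524000 152403 152418 h24 chk524
  rw [len524] at h25
  exact h25

end Cfsg.Agent.Lib.H6.ONTC
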