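import Cfsg.Agent.Lib.H6.ONTC.Steps23

set_option autoImplicit false
set_option maxRecDepth 1000000

/-! # invariant through part 23 of ON (generated) -/

namespace Cfsg.Agent.Lib.H6.ONTC

open Cfsg.Agent.Lib.H17.CosetCert Cfsg.Agent.Lib.H6.TC

theorem part23 {G Q : Type} [Group G] [MulAction G Q] (γ : ℕ → G)
    (hiv : ∀ x < 8, γ (iv x) = (γ x)⁻¹) (q0 : Q) (hw : WordsOK γ q0 words)
    (h0 : Inv F 8 γ q0 575000 163602) : Inv F 8 γ q0 600000 168600 := by
  have h1 := checkSteps_sound F iv 8 1048576 γ hiv q0 words hw steps575 575000 163602 163792 h0 chk575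
  rw [len575] at h1
  have h2 := checkSteps_sound F iv 8 1048576 γ hiv q0 words hw steps576 576000 163792 163982 h1 chk576
  rw [len576] at h2
  have h3 := checkSteps_sound F iv 8 1048576 γ hiv q0 words hw steps577 577000 163982 164169 h2 chk577
  rw [len577] at h3
  have h4 := checkSteps_sound F iv 8 1048576 γ hiv q0 words hw steps578 578000 164169 164386 h3 chk578
  rw [len578] at h4
  have h5 := checkSteps_sound F iv 8 1048576 γ hiv q0 words hw steps579 579000 164386 164568 h4 chk579
  rw [len579] at h5
  have h6 := checkSteps_sound F iv 8 1048576 γ hiv q0 words hw steps580 580000 164568 164777 h5 chk580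
  rw [len580] at h6
  have h7 := checkSteps_sound F iv 8 1048576 γ hiv q0 words hw steps581 581000 164777 164973 h6 chk581
  rw [len581] at h7
  have h8 := checkSteps_sound F iv 8 1048576 γ hiv q0 words hw steps582 582000 164973 165157 h7 chk582
  rw [len582] at h8
  have h9 := checkSteps_sound F iv 8 1048576 γ hiv q0 words hw steps583 583000 165157 165367 h8 chk583
  rw [len583] at h9
  have h10 := checkSteps_sound F iv 8 1048576 γ hiv q0 words hw steps584 584000 165367 165575 h9 chk584
  rw [len584] at h10
  have h11 := checkSteps_sound F iv 8 1048576 γ hiv q0 words hw steps585 585000 165575 165791 h10 chk585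
  rw [len585] at h11
  have h12 := checkSteps_sound F iv 8 1048576 γ hiv q0 words hw steps586 586000 165791 165979 h11 chk586
  rw [len586] at h12
  have h13 := checkSteps_sound F iv 8 1048576 γ hiv q0 words hw steps587 587000 165979 166160 h12 chk587
  rw [len587] at h13
  have h14 := checkSteps_sound F iv 8 1048576 γ hiv q0 words hw steps588 588000 166160 166345 h13 chk588
  rw [len588] at h14
  have h15 := checkSteps_sound F iv 8 1048576 γ hiv q0 words hw steps589 589000 166345 166544 h14 chk589
  rw [len589] at h15
  have h16 := checkSteps_sound F iv 8 1048576 γ hiv q0 words hw steps590 590000 166544 166744 h15 chk590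
  rw [len590] at h16
  have h17 := checkSteps_sound F iv 8 1048576 γ hiv q0 words hw steps591 591000 166744 166957 h16 chk591
  rw [len591] at h17
  have h18 := checkSteps_sound F iv 8 1048576 γ hiv q0 words hw steps592 592000 166957 167159 h17 chk592
  rw [len592] at h18
  have h19 := checkSteps_sound F iv 8 1048576 γ hiv q0 words hw steps593 593000 167159 167342 h18 chk593
  rw [len593] at h19
  have h20 := checkSteps_sound F iv 8 1048576 γ hiv q0 words hw steps594 594000 167342 167557 h19 chk594
  rw [len594] at h20
  have h21 := checkSteps_sound F iv 8 1048576 γ hiv q0 words hw steps595 595000 167557 167752 h20 chk595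
  rw [len595] at h21
  have h22 := checkSteps_sound F iv 8 1048576 γ hiv q0 words hw steps596 596000 167752 168005 h21 chk596
  rw [len596] at h22
  have h23 := checkSteps_sound F iv 8 1048576 γ hiv q0 words hw steps597 597000 168005 168232 h22 chk597
  rw [len597] at h23
  have h24 := checkSteps_sound F iv 8 1048576 γ hiv q0 words hw steps598 598000 168232 168429 h23 chk598
  rw [len598] at h24
  have h25 := checkSteps_sound F iv 8 1048576 γ hiv q0 words hw steps599 599000 168429 168600 h24 chk599
  rw [len599] at h25
  exact h25

end Cfsg.Agent.Lib.H6.ONTC
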