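import Cfsg.Agent.Lib.H6.ONTC.Steps26

set_option autoImplicit false
set_option maxRecDepth 1000000

/-! # invariant through part 26 of ON (generated) -/

namespace Cfsg.Agent.Lib.H6.ONTC

open Cfsg.Agent.Lib.H17.CosetCert Cfsg.Agent.Lib.H6.TC

theorem part26 {G Q : Type} [Group G] [MulAction G Q] (γ : ℕ → G)
    (hiv : ∀ x < 8, γ (iv x) = (γ x)⁻¹) (q0 : Q) (hw : WordsOK γ q0 words)
    (h0 : Inv F 8 γ q0 650000 178254) : Inv F 8 γ q0 675000 182687 := by
  have h1 := checkSteps_sound F iv 8 1048576 γ hiv q0 words hw steps650 650000 178254 178418 h0 chk650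
  rw [len650] at h1
  have h2 := checkSteps_sound F iv 8 1048576 γ hiv q0 words hw steps651 651000 178418 178589 h1 chk651
  rw [len651] at h2
  have h3 := checkSteps_sound F iv 8 1048576 γ hiv q0 words hw steps652 652000 178589 178770 h2 chk652
  rw [len652] at h3
  have h4 := checkSteps_sound F iv 8 1048576 γ hiv q0 words hw steps653 653000 178770 178969 h3 chk653
  rw [len653] at h4
  have h5 := checkSteps_sound F iv 8 1048576 γ hiv q0 words hw steps654 654000 178969 179137 h4 chk654
  rw [len654] at h5
  have h6 := checkSteps_sound F iv 8 1048576 γ hiv q0 words hw steps655 655000 179137 179321 h5 chk655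
  rw [len655] at h6
  have h7 := checkSteps_sound F iv 8 1048576 γ hiv q0 words hw steps656 656000 179321 179484 h6 chk656
  rw [len656] at h7
  have h8 := checkSteps_sound F iv 8 1048576 γ hiv q0 words hw steps657 657000 179484 179663 h7 chk657
  rw [len657] at h8
  have h9 := checkSteps_sound F iv 8 1048576 γ hiv q0 words hw steps658 658000 179663 179850 h8 chk658
  rw [len658] at h9
  have h10 := checkSteps_sound F iv 8 1048576 γ hiv q0 words hw steps659 659000 179850 180023 h9 chk659
  rw [len659] at h10
  have h11 := checkSteps_sound F iv 8 1048576 γ hiv q0 words hw steps660 660000 180023 180192 h10 chk660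
  rw [len660] at h11
  have h12 := checkSteps_sound F iv 8 1048576 γ hiv q0 words hw steps661 661000 180192 180358 h11 chk661
  rw [len661] at h12
  have h13 := checkSteps_sound F iv 8 1048576 γ hiv q0 words hw steps662 662000 180358 180532 h12 chk662
  rw [len662] at h13
  have h14 := checkSteps_sound F iv 8 1048576 γ hiv q0 words hw steps663 663000 180532 180701 h13 chk663
  rw [len663] at h14
  have h15 := checkSteps_sound F iv 8 1048576 γ hiv q0 words hw steps664 664000 180701 180876 h14 chk664
  rw [len664] at h15
  have h16 := checkSteps_sound F iv 8 1048576 γ hiv q0 words hw steps665 665000 180876 181050 h15 chk665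
  rw [len665] at h16
  have h17 := checkSteps_sound F iv 8 1048576 γ hiv q0 words hw steps666 666000 181050 181222 h16 chk666
  rw [len666] at h17
  have h18 := checkSteps_sound F iv 8 1048576 γ hiv q0 words hw steps667 667000 181222 181401 h17 chk667
  rw [len667] at h18
  have h19 := checkSteps_sound F iv 8 1048576 γ hiv q0 words hw steps668 668000 181401 181581 h18 chk668
  rw [len668] at h19
  have h20 := checkSteps_sound F iv 8 1048576 γ hiv q0 words hw steps669 669000 181581 181768 h19 chk669
  rw [len669] at h20
  have h21 := checkSteps_sound F iv 8 1048576 γ hiv q0 words hw steps670 670000 181768 181942 h20 chk670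
  rw [len670] at h21
  have h22 := checkSteps_sound F iv 8 1048576 γ hiv q0 words hw steps671 671000 181942 182147 h21 chk671
  rw [len671] at h22
  have h23 := checkSteps_sound F iv 8 1048576 γ hiv q0 words hw steps672 672000 182147 182324 h22 chk672
  rw [len672] at h23
  have h24 := checkSteps_sound F iv 8 1048576 γ hiv q0 words hw steps673 673000 182324 182510 h23 chk673
  rw [len673] at h24
  have h25 := checkSteps_sound F iv 8 1048576 γ hiv q0 words hw steps674 674000 182510 182687 h24 chk674
  rw [len674] at h25
  exact h25

end Cfsg.Agent.Lib.H6.ONTC
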