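import Cfsg.Agent.Lib.H6.ONTC.Steps27

set_option autoImplicit false
set_option maxRecDepth 1000000

/-! # invariant through part 27 of ON (generated) -/

namespace Cfsg.Agent.Lib.H6.ONTC

open Cfsg.Agent.Lib.H17.CosetCert Cfsg.Agent.Lib.H6.TC

theorem part27 {G Q : Type} [Group G] [MulAction G Q] (γ : ℕ → G)
    (hiv : ∀ x < 8, γ (iv x) = (γ x)⁻¹) (q0 : Q) (hw : WordsOK γ q0 words)
    (h0 : Inv F 8 γ q0 675000 182687) : Inv F 8 γ q0 700000 186887 := by
  have h1 := checkSteps_sound F iv 8 1048576 γ hiv q0 words hw steps675 675000 182687 182864 h0 chk675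
  rw [len675] at h1
  have h2 := checkSteps_sound F iv 8 1048576 γ hiv q0 words hw steps676 676000 182864 183030 h1 chk676
  rw [len676] at h2
  have h3 := checkSteps_sound F iv 8 1048576 γ hiv q0 words hw steps677 677000 183030 183225 h2 chk677
  rw [len677] at h3
  have h4 := checkSteps_sound F iv 8 1048576 γ hiv q0 words hw steps678 678000 183225 183400 h3 chk678
  rw [len678] at h4
  have h5 := checkSteps_sound F iv 8 1048576 γ hiv q0 words hw steps679 679000 183400 183560 h4 chk679
  rw [len679] at h5
  have h6 := checkSteps_sound F iv 8 1048576 γ hiv q0 words hw steps680 680000 183560 183741 h5 chk680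
  rw [len680] at h6
  have h7 := checkSteps_sound F iv 8 1048576 γ hiv q0 words hw steps681 681000 183741 183901 h6 chk681
  rw [len681] at h7
  have h8 := checkSteps_sound F iv 8 1048576 γ hiv q0 words hw steps682 682000 183901 184066 h7 chk682
  rw [len682] at h8
  have h9 := checkSteps_sound F iv 8 1048576 γ hiv q0 words hw steps683 683000 184066 184228 h8 chk683
  rw [len683] at h9
  have h10 := checkSteps_sound F iv 8 1048576 γ hiv q0 words hw steps684 684000 184228 184397 h9 chk684
  rw [len684] at h10
  have h11 := checkSteps_sound F iv 8 1048576 γ hiv q0 words hw steps685 685000 184397 184552 h10 chk685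
  rw [len685] at h11
  have h12 := checkSteps_sound F iv 8 1048576 γ hiv q0 words hw steps686 686000 184552 184738 h11 chk686
  rw [len686] at h12
  have h13 := checkSteps_sound F iv 8 1048576 γ hiv q0 words hw steps687 687000 184738 184914 h12 chk687
  rw [len687] at h13
  have h14 := checkSteps_sound F iv 8 1048576 γ hiv q0 words hw steps688 688000 184914 185076 h13 chk688
  rw [len688] at h14
  have h15 := checkSteps_sound F iv 8 1048576 γ hiv q0 words hw steps689 689000 185076 185229 h14 chk689
  rw [len689] at h15
  have h16 := checkSteps_sound F iv 8 1048576 γ hiv q0 words hw steps690 690000 185229 185403 h15 chk690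
  rw [len690] at h16
  have h17 := checkSteps_sound F iv 8 1048576 γ hiv q0 words hw steps691 691000 185403 185567 h16 chk691
  rw [len691] at h17
  have h18 := checkSteps_sound F iv 8 1048576 γ hiv q0 words hw steps692 692000 185567 185734 h17 chk692
  rw [len692] at h18
  have h19 := checkSteps_sound F iv 8 1048576 γ hiv q0 words hw steps693 693000 185734 185907 h18 chk693
  rw [len693] at h19
  have h20 := checkSteps_sound F iv 8 1048576 γ hiv q0 words hw steps694 694000 185907 186076 h19 chk694
  rw [len694] at h20
  have h21 := checkSteps_sound F iv 8 1048576 γ hiv q0 words hw steps695 695000 186076 186248 h20 chk695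
  rw [len695] at h21
  have h22 := checkSteps_sound F iv 8 1048576 γ hiv q0 words hw steps696 696000 186248 186417 h21 chk696
  rw [len696] at h22
  have h23 := checkSteps_sound F iv 8 1048576 γ hiv q0 words hw steps697 697000 186417 186580 h22 chk697
  rw [len697] at h23
  have h24 := checkSteps_sound F iv 8 1048576 γ hiv q0 words hw steps698 698000 186580 186734 h23 chk698
  rw [len698] at h24
  have h25 := checkSteps_sound F iv 8 1048576 γ hiv q0 words hw steps699 699000 186734 186887 h24 chk699
  rw [len699] at h25
  exact h25

end Cfsg.Agent.Lib.H6.ONTC
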