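import Cfsg.Agent.Lib.H6.ONTC.Steps28

set_option autoImplicit false
set_option maxRecDepth 1000000

/-! # invariant through part 28 of ON (generated) -/

namespace Cfsg.Agent.Lib.H6.ONTC

open Cfsg.Agent.Lib.H17.CosetCert Cfsg.Agent.Lib.H6.TC

theorem part28 {G Q : Type} [Group G] [MulAction G Q] (γ : ℕ → G)
    (hiv : ∀ x < 8, γ (iv x) = (γ x)⁻¹) (q0 : Q) (hw : WordsOK γ q0 words)
    (h0 : Inv F 8 γ q0 700000 186887) : Inv F 8 γ q0 725000 190832 := by
  have h1 := checkSteps_sound F iv 8 1048576 γ hiv q0 words hw steps700 700000 186887 187057 h0 chk700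
  rw [len700] at h1
  have h2 := checkSteps_sound F iv 8 1048576 γ hiv q0 words hw steps701 701000 187057 187211 h1 chk701
  rw [len701] at h2
  have h3 := checkSteps_sound F iv 8 1048576 γ hiv q0 words hw steps702 702000 187211 187373 h2 chk702
  rw [len702] at h3
  have h4 := checkSteps_sound F iv 8 1048576 γ hiv q0 words hw steps703 703000 187373 187540 h3 chk703
  rw [len703] at h4
  have h5 := checkSteps_sound F iv 8 1048576 γ hiv q0 words hw steps704 704000 187540 187716 h4 chk704
  rw [len704] at h5
  have h6 := checkSteps_sound F iv 8 1048576 γ hiv q0 words hw steps705 705000 187716 187869 h5 chk705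
  rw [len705] at h6
  have h7 := checkSteps_sound F iv 8 1048576 γ hiv q0 words hw steps706 706000 187869 188029 h6 chk706
  rw [len706] at h7
  have h8 := checkSteps_sound F iv 8 1048576 γ hiv q0 words hw steps707 707000 188029 188180 h7 chk707
  rw [len707] at h8
  have h9 := checkSteps_sound F iv 8 1048576 γ hiv q0 words hw steps708 708000 188180 188337 h8 chk708
  rw [len708] at h9
  have h10 := checkSteps_sound F iv 8 1048576 γ hiv q0 words hw steps709 709000 188337 188490 h9 chk709
  rw [len709] at h10
  have h11 := checkSteps_sound F iv 8 1048576 γ hiv q0 words hw steps710 710000 188490 188651 h10 chk710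
  rw [len710] at h11
  have h12 := checkSteps_sound F iv 8 1048576 γ hiv q0 words hw steps711 711000 188651 188812 h11 chk711
  rw [len711] at h12
  have h13 := checkSteps_sound F iv 8 1048576 γ hiv q0 words hw steps712 712000 188812 188988 h12 chk712
  rw [len712] at h13
  have h14 := checkSteps_sound F iv 8 1048576 γ hiv q0 words hw steps713 713000 188988 189140 h13 chk713
  rw [len713] at h14
  have h15 := checkSteps_sound F iv 8 1048576 γ hiv q0 words hw steps714 714000 189140 189300 h14 chk714
  rw [len714] at h15
  have h16 := checkSteps_sound F iv 8 1048576 γ hiv q0 words hw steps715 715000 189300 189464 h15 chk715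
  rw [len715] at h16
  have h17 := checkSteps_sound F iv 8 1048576 γ hiv q0 words hw steps716 716000 189464 189621 h16 chk716
  rw [len716] at h17
  have h18 := checkSteps_sound F iv 8 1048576 γ hiv q0 words hw steps717 717000 189621 189774 h17 chk717
  rw [len717] at h18
  have h19 := checkSteps_sound F iv 8 1048576 γ hiv q0 words hw steps718 718000 189774 189925 h18 chk718
  rw [len718] at h19
  have h20 := checkSteps_sound F iv 8 1048576 γ hiv q0 words hw steps719 719000 189925 190075 h19 chk719
  rw [len719] at h20
  have h21 := checkSteps_sound F iv 8 1048576 γ hiv q0 words hw steps720 720000 190075 190217 h20 chk720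
  rw [len720] at h21
  have h22 := checkSteps_sound F iv 8 1048576 γ hiv q0 words hw steps721 721000 190217 190371 h21 chk721
  rw [len721] at h22
  have h23 := checkSteps_sound F iv 8 1048576 γ hiv q0 words hw steps722 722000 190371 190529 h22 chk722
  rw [len722] at h23
  have h24 := checkSteps_sound F iv 8 1048576 γ hiv q0 words hw steps723 723000 190529 190685 h23 chk723
  rw [len723] at h24
  have h25 := checkSteps_sound F iv 8 1048576 γ hiv q0 words hw steps724 724000 190685 190832 h24 chk724
  rw [len724] at h25
  exact h25

end Cfsg.Agent.Lib.H6.ONTC
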