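import Cfsg.Agent.Lib.H6.ONTC.Steps29

set_option autoImplicit false
set_option maxRecDepth 1000000

/-! # invariant through part 29 of ON (generated) -/

namespace Cfsg.Agent.Lib.H6.ONTC

open Cfsg.Agent.Lib.H17.CosetCert Cfsg.Agent.Lib.H6.TC

theorem part29 {G Q : Type} [Group G] [MulAction G Q] (γ : ℕ → G)
    (hiv : ∀ x < 8, γ (iv x) = (γ x)⁻¹) (q0 : Q) (hw : WordsOK γ q0 words)
    (h0 : Inv F 8 γ q0 725000 190832) : Inv F 8 γ q0 732005 191849 := by
  have h1 := checkSteps_sound F iv 8 1048576 γ hiv q0 words hw steps725 725000 190832 190980 h0 chk725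
  rw [len725] at h1
  have h2 := checkSteps_sound F iv 8 1048576 γ hiv q0 words hw steps726 726000 190980 191128 h1 chk726
  rw [len726] at h2
  have h3 := checkSteps_sound F iv 8 1048576 γ hiv q0 words hw steps727 727000 191128 191272 h2 chk727
  rw [len727] at h3
  have h4 := checkSteps_sound F iv 8 1048576 γ hiv q0 words hw steps728 728000 191272 191425 h3 chk728
  rw [len728] at h4
  have h5 := checkSteps_sound F iv 8 1048576 γ hiv q0 words hw steps729 729000 191425 191565 h4 chk729
  rw [len729] at h5
  have h6 := checkSteps_sound F iv 8 1048576 γ hiv q0 words hw steps730 730000 191565 191708 h5 chk730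
  rw [len730] at h6
  have h7 := checkSteps_sound F iv 8 1048576 γ hiv q0 words hw steps731 731000 191708 191849 h6 chk731
  rw [len731] at h7
  have h8 := checkSteps_sound F iv 8 1048576 γ hiv q0 words hw steps732 732000 191849 191849 h7 chk732
  rw [len732] at h8
  exact h8

end Cfsg.Agent.Lib.H6.ONTC
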