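import Cfsg.Agent.Lib.H6.ONTC.Steps6

set_option autoImplicit false
set_option maxRecDepth 1000000

/-! # invariant through part 6 of ON (generated) -/

namespace Cfsg.Agent.Lib.H6.ONTC

open Cfsg.Agent.Lib.H17.CosetCert Cfsg.Agent.Lib.H6.TC

theorem part6 {G Q : Type} [Group G] [MulAction G Q] (γ : ℕ → G)
    (hiv : ∀ x < 8, γ (iv x) = (γ x)⁻¹) (q0 : Q) (hw : WordsOK γ q0 words)
    (h0 : Inv F 8 γ q0 150000 56017) : Inv F 8 γ q0 175000 67221 := by
  have h1 := checkSteps_sound F iv 8 1048576 γ hiv q0 words hw steps150 150000 56017 56550 h0 chk150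
  rw [len150] at h1
  have h2 := checkSteps_sound F iv 8 1048576 γ hiv q0 words hw steps151 151000 56550 57029 h1 chk151
  rw [len151] at h2
  have h3 := checkSteps_sound F iv 8 1048576 γ hiv q0 words hw steps152 152000 57029 57478 h2 chk152
  rw [len152] at h3
  have h4 := checkSteps_sound F iv 8 1048576 γ hiv q0 words hw steps153 153000 57478 57854 h3 chk153
  rw [len153] at h4
  have h5 := checkSteps_sound F iv 8 1048576 γ hiv q0 words hw steps154 154000 57854 58238 h4 chk154
  rw [len154] at h5
  have h6 := checkSteps_sound F iv 8 1048576 γ hiv q0 words hw steps155 155000 58238 58674 h5 chk155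
  rw [len155] at h6
  have h7 := checkSteps_sound F iv 8 1048576 γ hiv q0 words hw steps156 156000 58674 59155 h6 chk156
  rw [len156] at h7
  have h8 := checkSteps_sound F iv 8 1048576 γ hiv q0 words hw steps157 157000 59155 59526 h7 chk157
  rw [len157] at h8
  have h9 := checkSteps_sound F iv 8 1048576 γ hiv q0 words hw steps158 158000 59526 59805 h8 chk158
  rw [len158] at h9
  have h10 := checkSteps_sound F iv 8 1048576 γ hiv q0 words hw steps159 159000 59805 60360 h9 chk159
  rw [len159] at h10
  have h11 := checkSteps_sound F iv 8 1048576 γ hiv q0 words hw steps160 160000 60360 60883 h10 chk160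
  rw [len160] at h11
  have h12 := checkSteps_sound F iv 8 1048576 γ hiv q0 words hw steps161 161000 60883 61406 h11 chk161
  rw [len161] at h12
  have h13 := checkSteps_sound F iv 8 1048576 γ hiv q0 words hw steps162 162000 61406 61814 h12 chk162
  rw [len162] at h13
  have h14 := checkSteps_sound F iv 8 1048576 γ hiv q0 words hw steps163 163000 61814 62126 h13 chk163
  rw [len163] at h14
  have h15 := checkSteps_sound F iv 8 1048576 γ hiv q0 words hw steps164 164000 62126 62619 h14 chk164
  rw [len164] at h15
  have h16 := checkSteps_sound F iv 8 1048576 γ hiv q0 words hw steps165 165000 62619 63064 h15 chk165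
  rw [len165] at h16
  have h17 := checkSteps_sound F iv 8 1048576 γ hiv q0 words hw steps166 166000 63064 63459 h16 chk166
  rw [len166] at h17
  have h18 := checkSteps_sound F iv 8 1048576 γ hiv q0 words hw steps167 167000 63459 63949 h17 chk167
  rw [len167] at h18
  have h19 := checkSteps_sound F iv 8 1048576 γ hiv q0 words hw steps168 168000 63949 64370 h18 chk168
  rw [len168] at h19
  have h20 := checkSteps_sound F iv 8 1048576 γ hiv q0 words hw steps169 169000 64370 64767 h19 chk169
  rw [len169] at h20
  have h21 := checkSteps_sound F iv 8 1048576 γ hiv q0 words hw steps170 170000 64767 65281 h20 chk170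
  rw [len170] at h21
  have h22 := checkSteps_sound F iv 8 1048576 γ hiv q0 words hw steps171 171000 65281 65695 h21 chk171
  rw [len171] at h22
  have h23 := checkSteps_sound F iv 8 1048576 γ hiv q0 words hw steps172 172000 65695 66202 h22 chk172
  rw [len172] at h23
  have h24 := checkSteps_sound F iv 8 1048576 γ hiv q0 words hw steps173 173000 66202 66701 h23 chk173
  rw [len173] at h24
  have h25 := checkSteps_sound F iv 8 1048576 γ hiv q0 words hw steps174 174000 66701 67221 h24 chk174
  rw [len174] at h25
  exact h25

end Cfsg.Agent.Lib.H6.ONTC
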