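import Cfsg.Agent.Lib.H6.TCMask
import Cfsg.Agent.Lib.H6.ONTC.Rows0
import Cfsg.Agent.Lib.H6.ONTC.Rows1
import Cfsg.Agent.Lib.H6.ONTC.Rows2
import Cfsg.Agent.Lib.H6.ONTC.Rows3
import Cfsg.Agent.Lib.H6.ONTC.Rows4
import Cfsg.Agent.Lib.H6.ONTC.Rows5
import Cfsg.Agent.Lib.H6.ONTC.Rows6
import Cfsg.Agent.Lib.H6.ONTC.Rows7
import Cfsg.Agent.Lib.H6.ONTC.Rows8
import Cfsg.Agent.Lib.H6.ONTC.Rows9
import Cfsg.Agent.Lib.H6.ONTC.Rows10
import Cfsg.Agent.Lib.H6.ONTC.Rows11
import Cfsg.Agent.Lib.H6.ONTC.Rows12

set_option autoImplicit false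
set_option maxRecDepth 1000000

/-! # final table of ON (generated) -/

namespace Cfsg.Agent.Lib.H6.ONTC

open Cfsg.Agent.Lib.H17.CosetCert Cfsg.Agent.Lib.H6.TC

/-- all row chunks -/
def rowsAll : List (List ℕ) := [rows0, rows1, rows2, rows3, rows4, rows5, rows6, rows7, rows8, rows9, rows10, rows11, rows12, rows13, rows14, rows15, rows16, rows17, rows18, rows19, rows20, rows21, rows22, rows23, rows24, rows25, rows26, rows27, rows28, rows29, rows30, rows31, rows32, rows33, rows34, rows35, rows36, rows37, rows38, rows39, rows40, rows41, rows42, rows43, rows44, rows45, rows46, rows47, rows48, rows49, rows50, rows51, rows52, rows53, rows54, rows55, rows56, rows57, rows58, rows59, rows60, rows61, rows62, rows63, rows64, rows65, rows66, rows67, rows68, rows69, rows70, rows71, rows72, rows73, rows74, rows75, rows76, rows77, rows78, rows79, rows80, rows81, rows82, rows83, rows84, rows85, rows86, rows87, rows88, rows89, rows90, rows91, rows92, rows93, rows94, rows95, rows96, rows97, rows98, rows99, rows100, rows101, rows102, rows103, rows104, rows105,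 rows106, rows107, rows108, rows109, rows110, rows111, rows112, rows113, rows114, rows115, rows116, rows117, rows118, rows119, rows120, rows121, rows122]

/-- all rows -/
def rows : List ℕ := rowsAll.flatten

set_option maxHeartbeats 0 in
theorem mask_all : maskRAll 1048576 rowsAll = mask := by
  decide +kernel

theorem mask_mem : ∀ j, tb mask j = true → ∃ r ∈ rows, Nat.mod r 1048576 = j := by
  intro j hj
  rw [← mask_all] at hj
  exact tb_maskRAll 1048576 rowsAll j hj

set_option maxHeartbeats 0 in
theorem rows_length : rows.length = 122760 := by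
  decide +kernel

theorem mask_zero : tb mask 0 = true := by
  decide +kernel

theorem rows_chk : ∀ L ∈ rowsAll, checkRows F iv 8 1048576 732005 mask L = true := by
  intro L hL
  simp only [rowsAll, List.mem_cons, List.not_mem_nil, or_false] at hL
  rcases hL with rfl | rfl | rfl | rfl | rfl | rfl | rfl | rfl | rfl | rfl | rfl | rfl | rfl | rfl | rfl | rfl | rfl | rfl | rfl | rfl | rfl | rfl | rfl | rfl | rfl | rfl | rfl | rfl | rfl | rfl | rfl | rfl | rfl | rfl | rfl | rfl | rfl | rfl | rfl | rfl | rfl | rfl | rfl | rfl | rfl | rfl | rfl | rfl | rfl | rfl | rfl | rfl | rfl | rfl | rfl | rfl | rfl | rfl | rfl | rfl | rfl | rfl | rfl | rfl | rfl | rfl | rfl | rfl | rfl | rfl | rfl | rfl | rfl | rfl | rfl | rfl | rfl | rfl | rfl | rfl | rfl | rfl | rfl | rfl | rfl | rfl | rfl | rfl | rfl | rfl | rfl | rfl | rfl | rfl | rfl | rfl | rfl | rfl | rfl | rfl | rfl | rfl | rfl | rfl | rfl | rfl | rfl | rfl | rfl | rfl | rfl | rfl | rfl | rfl | rfl | rfl | rfl | rfl | rfl | rfl | rfl | rfl | rfl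
  · exact rchk0
  · exact rchk1
  · exact rchk2
  · exact rchk3
  · exact rchk4
  · exact rchk5
  · exact rchk6
  · exact rchk7
  · exact rchk8
  · exact rchk9
  · exact rchk10
  · exact rchk11
  · exact rchk12
  · exact rchk13
  · exact rchk14
  · exact rchk15
  · exact rchk16
  · exact rchk17
  · exact rchk18
  · exact rchk19
  · exact rchk20
  · exact rchk21
  · exact rchk22
  · exact rchk23
  · exact rchk24
  · exact rchk25
  · exact rchk26
  · exact rchk27
  · exact rchk28
  · exact rchk29
  · exact rchk30
  · exact rchk31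
  · exact rchk32
  · exact rchk33
  · exact rchk34
  · exact rchk35
  · exact rchk36
  · exact rchk37
  · exact rchk38
  · exact rchk39
  · exact rchk40
  · exact rchk41
  · exact rchk42
  · exact rchk43
  · exact rchk44
  · exact rchk45
  · exact rchk46
  · exact rchk47
  · exact rchk48
  · exact rchk49
  · exact rchk50
  · exact rchk51
  · exact rchk52
  · exact rchk53
  · exact rchk54
  · exact rchk55
  · exact rchk56
  · exact rchk57
  · exact rchk58
  · exact rchk59
  · exact rchk60
  · exact rchk61
  · exact rchk62
  · exact rchk63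
  · exact rchk64
  · exact rchk65
  · exact rchk66
  · exact rchk67
  · exact rchk68
  · exact rchk69
  · exact rchk70
  · exact rchk71
  · exact rchk72
  · exact rchk73
  · exact rchk74
  · exact rchk75
  · exact rchk76
  · exact rchk77
  · exact rchk78
  · exact rchk79
  · exact rchk80
  · exact rchk81
  · exact rchk82
  · exact rchk83
  · exact rchk84
  · exact rchk85
  · exact rchk86
  · exact rchk87
  · exact rchk88
  · exact rchk89
  · exact rchk90
  · exact rchk91
  · exact rchk92
  · exact rchk93
  · exact rchk94
  · exact rchk95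
  · exact rchk96
  · exact rchk97
  · exact rchk98
  · exact rchk99
  · exact rchk100
  · exact rchk101
  · exact rchk102
  · exact rchk103
  · exact rchk104
  · exact rchk105
  · exact rchk106
  · exact rchk107
  · exact rchk108
  · exact rchk109
  · exact rchk110
  · exact rchk111
  · exact rchk112
  · exact rchk113
  · exact rchk114
  · exact rchk115
  · exact rchk116
  · exact rchk117
  · exact rchk118
  · exact rchk119
  · exact rchk120
  · exact rchk121
  · exact rchk122

end Cfsg.Agent.Lib.H6.ONTC
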