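import Cfsg.Agent.Lib.H6.ONTC.Part0
import Cfsg.Agent.Lib.H6.ONTC.Part1
import Cfsg.Agent.Lib.H6.ONTC.Part2
import Cfsg.Agent.Lib.H6.ONTC.Part3
import Cfsg.Agent.Lib.H6.ONTC.Part4
import Cfsg.Agent.Lib.H6.ONTC.Part5
import Cfsg.Agent.Lib.H6.ONTC.Part6
import Cfsg.Agent.Lib.H6.ONTC.Part7
import Cfsg.Agent.Lib.H6.ONTC.Part8
import Cfsg.Agent.Lib.H6.ONTC.Part9
import Cfsg.Agent.Lib.H6.ONTC.Part10
import Cfsg.Agent.Lib.H6.ONTC.Part11
import Cfsg.Agent.Lib.H6.ONTC.Part12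
import Cfsg.Agent.Lib.H6.ONTC.Part13
import Cfsg.Agent.Lib.H6.ONTC.Part14
import Cfsg.Agent.Lib.H6.ONTC.Part15
import Cfsg.Agent.Lib.H6.ONTC.Part16
import Cfsg.Agent.Lib.H6.ONTC.Part17
import Cfsg.Agent.Lib.H6.ONTC.Part18
import Cfsg.Agent.Lib.H6.ONTC.Part19
import Cfsg.Agent.Lib.H6.ONTC.Part20
import Cfsg.Agent.Lib.H6.ONTC.Part21
import Cfsg.Agent.Lib.H6.ONTC.Part22
import Cfsg.Agent.Lib.H6.ONTC.Part23
import Cfsg.Agent.Lib.H6.ONTC.Part24
import Cfsg.Agent.Lib.H6.ONTC.Part25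
import Cfsg.Agent.Lib.H6.ONTC.Part26
import Cfsg.Agent.Lib.H6.ONTC.Part27
import Cfsg.Agent.Lib.H6.ONTC.Part28
import Cfsg.Agent.Lib.H6.ONTC.Part29
import Cfsg.Agent.Lib.H6.ONTC.Rows

set_option autoImplicit false
set_option maxRecDepth 1000000

/-! # the certified enumeration of ON (generated) -/

namespace Cfsg.Agent.Lib.H6.ONTC

open Cfsg.Agent.Lib.H17.CosetCert Cfsg.Agent.Lib.H6.TC

/-- every transitive action in which the relator words act trivially and the subgroup words fix the base point has at most 122760 points -/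
theorem bound {G Q : Type} [Group G] [MulAction G Q] [MulAction.IsPretransitive G Q] (γ : ℕ → G)
    (hiv : ∀ x < 8, γ (iv x) = (γ x)⁻¹) (q0 : Q) (hw : WordsOK γ q0 words)
    (hgen : Subgroup.closure {g : G | ∃ x < 8, g = γ x} = ⊤) : Finite Q ∧ Nat.card Q ≤ 122760 := by
  have h0 := inv_zero F 8 γ q0
  have h1 := part0 γ hiv q0 hw h0
  have h2 := part1 γ hiv q0 hw h1
  have h3 := part2 γ hiv q0 hw h2
  have h4 := part3 γ hiv q0 hw h3
  have h5 := part4 γ hiv q0 hw h4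
  have h6 := part5 γ hiv q0 hw h5
  have h7 := part6 γ hiv q0 hw h6
  have h8 := part7 γ hiv q0 hw h7
  have h9 := part8 γ hiv q0 hw h8
  have h10 := part9 γ hiv q0 hw h9
  have h11 := part10 γ hiv q0 hw h10
  have h12 := part11 γ hiv q0 hw h11
  have h13 := part12 γ hiv q0 hw h12
  have h14 := part13 γ hiv q0 hw h13
  have h15 := part14 γ hiv q0 hw h14
  have h16 := part15 γ hiv q0 hw h15
  have h17 := part16 γ hiv q0 hw h16
  have h18 := part17 γ hiv q0 hw h17
  have h19 := part18 γ hiv q0 hw h18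
  have h20 := part19 γ hiv q0 hw h19
  have h21 := part20 γ hiv q0 hw h20
  have h22 := part21 γ hiv q0 hw h21
  have h23 := part22 γ hiv q0 hw h22
  have h24 := part23 γ hiv q0 hw h23
  have h25 := part24 γ hiv q0 hw h24
  have h26 := part25 γ hiv q0 hw h25
  have h27 := part26 γ hiv q0 hw h26
  have h28 := part27 γ hiv q0 hw h27
  have h29 := part28 γ hiv q0 hw h28
  have h30 := part29 γ hiv q0 hw h29
  have hm := mask_mem
  have := card_le F iv 8 1048576 γ hiv q0 732005 191849 h30 rows mask hm mask_zero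
    (checkRows_of_forall F iv 8 1048576 732005 mask rowsAll rows_chk) hgen
  rw [rows_length] at this
  exact this

end Cfsg.Agent.Lib.H6.ONTC
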