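import Cfsg.Agent.Lib.H6.ONTC.Facts0
import Cfsg.Agent.Lib.H6.ONTC.Facts1
import Cfsg.Agent.Lib.H6.ONTC.Facts2
import Cfsg.Agent.Lib.H6.ONTC.Facts3
import Cfsg.Agent.Lib.H6.ONTC.Facts4
import Cfsg.Agent.Lib.H6.ONTC.Facts5
import Cfsg.Agent.Lib.H6.ONTC.Facts6
import Cfsg.Agent.Lib.H6.ONTC.Facts7

set_option autoImplicit false
set_option maxRecDepth 1000000

/-! # facts and words of ON (generated) -/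

namespace Cfsg.Agent.Lib.H6.ONTC

open Cfsg.Agent.Lib.H17.CosetCert Cfsg.Agent.Lib.H6.TC

/-- the packed facts -/
def factTree : BT := .node (.node (.node (ft0) (ft1)) (.node (ft2) (ft3))) (.node (.node (ft4) (ft5)) (.node (ft6) (ft7)))

/-- fact number `f` -/
noncomputable def F (f : ℕ) : ℕ × ℕ × ℕ := factOf factTree 128 4096 40 1099511627776 18 262144 f

/-- the inverse letter -/
def iv (x : ℕ) : ℕ := (cond (Nat.beq x 0) 1 (cond (Nat.beq x 1) 0 x))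

/-- the words: relator rotations, subgroup generators, trivial words -/
def words : WT := .node (.node (.node (.node (.node (.node (.node (.node (.leaf [2, 2] true) (.leaf [5, 0, 3, 4, 5, 0, 3, 4, 5, 0, 3, 4, 5, 0, 3, 4, 5, 0, 3, 4] true)) (.leaf [4, 5, 4, 5, 4, 5, 4, 5, 4, 5, 4, 5, 4, 5, 4, 5] true)) (.node (.node (.leaf [2, 7, 2, 7] true) (.leaf [0, 5, 6, 0, 6, 5, 0, 5, 0, 6, 5] true)) (.leaf [2, 7, 5, 4, 5, 4, 5, 4, 5, 4] true))) (.node (.node (.node (.leaf [2, 3, 2, 3, 2, 3] true) (.leaf [5, 0, 3, 4, 5, 0, 3, 4, 5, 0, 3, 4, 5, 0, 3, 4, 5, 0, 3, 4] true)) (.leaf [5, 6, 5, 6, 5, 6] true)) (.node (.node (.leaf [3, 7, 3, 7] true) (.leaf [2, 2] true)) (.leaf [5, 0, 5, 0, 4, 1, 5, 1, 5, 4] true)))) (.node (.node (.node (.node (.leaf [6, 6] true) (.leaf [5, 0, 3, 4, 5, 0, 3, 4, 5, 0, 3, 4, 5,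 0, 3, 4, 5, 0, 3, 4] true)) (.leaf [4, 7, 4, 7] true)) (.node (.node (.leaf [3, 5, 3, 5] true) (.leaf [2] false)) (.leaf [5, 4, 2, 7, 5, 4, 5, 4, 5, 4] true))) (.node (.node (.node (.leaf [2, 5, 2, 5] true) (.leaf [0, 3, 4, 0, 4, 0, 3, 4, 0, 4, 3] true)) (.leaf [6, 7, 6, 7, 6, 7] true)) (.node (.leaf [4, 5, 4, 5, 4, 5, 4, 5, 4, 5, 4, 5, 4, 5, 4, 5] true) (.leaf [4, 5, 4, 0, 4, 0, 5, 1, 4, 1] true))))) (.node (.node (.node (.node (.node (.leaf [4, 4] true) (.leaf [5, 0, 3, 4, 5, 0, 3, 4, 5, 0, 3, 4, 5, 0, 3, 4, 5, 0, 3, 4] true)) (.leaf [4, 6, 4, 6] true)) (.node (.node (.leaf [3, 4, 3, 4, 3, 4] true) (.leaf [6, 5, 0, 5, 0, 6, 5, 0, 5, 6, 0] true)) (.leaf [5, 4, 5, 4, 5, 4, 2, 7, 5, 4] true))) (.node (.node (.node (.leaf [2, 4, 2, 4] true) (.leaf [4, 0, 4, 3, 0, 3, 4, 0, 4, 0, 3] true)) (.leaf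 [5, 7, 5, 7] true)) (.node (.node (.leaf [4, 5, 4, 5, 4, 5, 4, 5, 4, 5, 4, 5, 4, 5, 4, 5] true) (.leaf [6, 6] true)) (.leaf [5, 1, 4, 1, 4, 5, 4, 0, 4, 0] true)))) (.node (.node (.node (.node (.leaf [2, 3, 2, 3, 2, 3] true) (.leaf [5, 0, 3, 4, 5, 0, 3, 4, 5, 0, 3, 4, 5, 0, 3, 4, 5, 0, 3, 4] true)) (.leaf [5, 6, 5, 6, 5, 6] true)) (.node (.node (.leaf [3, 6, 3, 6] true) (.leaf [6] false)) (.leaf [5, 1, 5, 4, 5, 0, 5, 0, 4, 1] true))) (.node (.node (.node (.leaf [2, 6, 2, 6] true) (.leaf [4, 0, 3, 4, 0, 4, 3, 0, 3, 4, 0] true)) (.leaf [2, 7, 1, 1] true)) (.node (.leaf [4, 5, 4, 5, 4, 5, 4, 5, 4, 5, 4, 5, 4, 5, 4, 5] true) (.leaf [4, 0, 5, 1, 4, 1, 4, 5, 4, 0] true)))))) (.node (.node (.node (.node (.node (.node (.leaf [3, 3] true) (.leaf [3, 4, 5, 0, 3, 4, 5, 0, 3, 4, 5, 0, 3, 4, 5, 0, 3, 4,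 5, 0] true)) (.leaf [4, 5, 4, 5, 4, 5, 4, 5, 4, 5, 4, 5, 4, 5, 4, 5] true)) (.node (.node (.leaf [3, 4, 3, 4, 3, 4] true) (.leaf [6, 0, 6, 5, 0, 5, 0, 6, 5, 0, 5] true)) (.leaf [5, 4, 5, 4, 5, 4, 5, 4, 2, 7] true))) (.node (.node (.node (.leaf [2, 4, 2, 4] true) (.leaf [0, 3, 4, 0, 4, 3, 0, 3, 4, 0, 4] true)) (.leaf [5, 7, 5, 7] true)) (.node (.node (.leaf [3, 7, 3, 7] true) (.leaf [4, 4] true)) (.leaf [5, 0, 4, 1, 5, 1, 5, 4, 5, 0] true)))) (.node (.node (.node (.node (.leaf [7, 7] true) (.leaf [3, 4, 5, 0, 3, 4, 5, 0, 3, 4, 5, 0, 3, 4, 5, 0, 3, 4, 5, 0] true)) (.leaf [4, 7, 4, 7] true)) (.node (.node (.leaf [3, 5, 3, 5] true) (.leaf [4] false)) (.leaf [4, 1, 5, 1, 5, 4, 5, 0, 5, 0] true))) (.node (.node (.node (.leaf [2, 6, 2, 6] true) (.leaf [4, 0, 4, 0, 3, 4, 0, 4, 3, 0, 3] true)) (.leaf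 [6, 7, 6, 7, 6, 7] true)) (.node (.leaf [4, 5, 4, 5, 4, 5, 4, 5, 4, 5, 4, 5, 4, 5, 4, 5] true) (.leaf [4, 0, 4, 0, 5, 1, 4, 1, 4, 5] true))))) (.node (.node (.node (.node (.node (.leaf [5, 5] true) (.leaf [3, 4, 5, 0, 3, 4, 5, 0, 3, 4, 5, 0, 3, 4, 5, 0, 3, 4, 5, 0] true)) (.leaf [4, 6, 4, 6] true)) (.node (.node (.leaf [3, 4, 3, 4, 3, 4] true) (.leaf [0, 5, 0, 6, 5, 0, 5, 6, 0, 6, 5] true)) (.leaf [5, 4, 5, 4, 2, 7, 5, 4, 5, 4] true))) (.node (.node (.node (.leaf [2, 5, 2, 5] true) (.leaf [4, 3, 0, 3, 4, 0, 4, 0, 3, 4, 0] true)) (.leaf [6, 7, 6, 7, 6, 7] true)) (.node (.leaf [4, 5, 4, 5, 4, 5, 4, 5, 4, 5, 4, 5, 4, 5, 4, 5] true) (.leaf [4, 1, 4, 5, 4, 0, 4, 0, 5, 1] true)))) (.node (.node (.node (.node (.leaf [2, 3, 2, 3, 2, 3] true) (.leaf [3, 4, 5, 0, 3, 4, 5, 0, 3, 4, 5, 0, 3, 4, 5, 0,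 3, 4, 5, 0] true)) (.leaf [5, 6, 5, 6, 5, 6] true)) (.node (.node (.leaf [3, 6, 3, 6] true) (.leaf [1, 0] true)) (.leaf [5, 4, 5, 0, 5, 0, 4, 1, 5, 1] true))) (.node (.node (.node (.leaf [2, 7, 2, 7] true) (.leaf [6, 5, 0, 5, 6, 0, 6, 5, 0, 5, 0] true)) (.leaf [1, 1, 2, 7] true)) (.node (.leaf [4, 5, 4, 5, 4, 5, 4, 5, 4, 5, 4, 5, 4, 5, 4, 5] true) (.leaf [3, 4, 5, 0, 3, 4, 5, 0, 3, 4, 5, 0, 3, 4, 5, 0, 3, 4, 5, 0] true))))))) (.node (.node (.node (.node (.node (.node (.node (.leaf [2, 2] true) (.leaf [0, 3, 4, 5, 0, 3, 4, 5, 0, 3, 4, 5, 0, 3, 4, 5, 0, 3, 4, 5] true)) (.leaf [5, 4, 5, 4, 5, 4, 5, 4, 5, 4, 5, 4, 5, 4, 5, 4] true)) (.node (.node (.leaf [7, 2, 7, 2] true) (.leaf [5, 6, 0, 6, 5, 0, 5, 0, 6, 5, 0] true)) (.leaf [7, 5, 4, 5, 4, 5, 4, 5, 4, 2] true))) (.node (.node (.node (.leaf [3,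 2, 3, 2, 3, 2] true) (.leaf [0, 3, 4, 5, 0, 3, 4, 5, 0, 3, 4, 5, 0, 3, 4, 5, 0, 3, 4, 5] true)) (.leaf [6, 5, 6, 5, 6, 5] true)) (.node (.node (.leaf [7, 3, 7, 3] true) (.leaf [3, 3] true)) (.leaf [0, 5, 0, 4, 1, 5, 1, 5, 4, 5] true)))) (.node (.node (.node (.node (.leaf [6, 6] true) (.leaf [0, 3, 4, 5, 0, 3, 4, 5, 0, 3, 4, 5, 0, 3, 4, 5, 0, 3, 4, 5] true)) (.leaf [7, 4, 7, 4] true)) (.node (.node (.leaf [5, 3, 5, 3] true) (.leaf [3] false)) (.leaf [4, 2, 7, 5, 4, 5, 4, 5, 4, 5] true))) (.node (.node (.node (.leaf [5, 2, 5, 2] true) (.leaf [3, 4, 0, 4, 0, 3, 4, 0, 4, 3, 0] true)) (.leaf [7, 6, 7, 6, 7, 6] true)) (.node (.leaf [5, 4, 5, 4, 5, 4, 5, 4, 5, 4, 5, 4, 5, 4, 5, 4] true) (.leaf [5, 4, 0, 4, 0, 5, 1, 4, 1, 4] true))))) (.node (.node (.node (.node (.node (.leaf [4, 4] true) (.leaf [0,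 3, 4, 5, 0, 3, 4, 5, 0, 3, 4, 5, 0, 3, 4, 5, 0, 3, 4, 5] true)) (.leaf [6, 4, 6, 4] true)) (.node (.node (.leaf [4, 3, 4, 3, 4, 3] true) (.leaf [5, 0, 5, 0, 6, 5, 0, 5, 6, 0, 6] true)) (.leaf [4, 5, 4, 5, 4, 2, 7, 5, 4, 5] true))) (.node (.node (.node (.leaf [4, 2, 4, 2] true) (.leaf [0, 4, 3, 0, 3, 4, 0, 4, 0, 3, 4] true)) (.leaf [7, 5, 7, 5] true)) (.node (.node (.leaf [5, 4, 5, 4, 5, 4, 5, 4, 5, 4, 5, 4, 5, 4, 5, 4] true) (.leaf [7, 7] true)) (.leaf [1, 4, 1, 4, 5, 4, 0, 4, 0, 5] true)))) (.node (.node (.node (.node (.leaf [3, 2, 3, 2, 3, 2] true) (.leaf [0, 3, 4, 5, 0, 3, 4, 5, 0, 3, 4, 5, 0, 3, 4, 5, 0, 3, 4, 5] true)) (.leaf [6, 5, 6, 5, 6, 5] true)) (.node (.node (.leaf [6, 3, 6, 3] true) (.leaf [7] false)) (.leaf [1, 5, 4, 5, 0, 5, 0, 4, 1, 5] true))) (.node (.node (.node (.leaf [6,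 2, 6, 2] true) (.leaf [0, 6, 5, 0, 5, 6, 0, 6, 5, 0, 5] true)) (.leaf [7, 1, 1, 2] true)) (.node (.leaf [5, 4, 5, 4, 5, 4, 5, 4, 5, 4, 5, 4, 5, 4, 5, 4] true) (.leaf [0, 5, 1, 4, 1, 4, 5, 4, 0, 4] true)))))) (.node (.node (.node (.node (.node (.node (.leaf [3, 3] true) (.leaf [4, 5, 0, 3, 4, 5, 0, 3, 4, 5, 0, 3, 4, 5, 0, 3, 4, 5, 0, 3] true)) (.leaf [5, 4, 5, 4, 5, 4, 5, 4, 5, 4, 5, 4, 5, 4, 5, 4] true)) (.node (.node (.leaf [4, 3, 4, 3, 4, 3] true) (.leaf [0, 6, 5, 0, 5, 0, 6, 5, 0, 5, 6] true)) (.leaf [4, 5, 4, 5, 4, 5, 4, 2, 7, 5] true))) (.node (.node (.node (.leaf [4, 2, 4, 2] true) (.leaf [3, 4, 0, 4, 3, 0, 3, 4, 0, 4, 0] true)) (.leaf [7, 5, 7, 5] true)) (.node (.node (.leaf [7, 3, 7, 3] true) (.leaf [5, 5] true)) (.leaf [0, 4, 1, 5, 1, 5, 4, 5, 0, 5] true)))) (.node (.node (.node (.node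 (.leaf [7, 7] true) (.leaf [4, 5, 0, 3, 4, 5, 0, 3, 4, 5, 0, 3, 4, 5, 0, 3, 4, 5, 0, 3] true)) (.leaf [7, 4, 7, 4] true)) (.node (.node (.leaf [5, 3, 5, 3] true) (.leaf [5] false)) (.leaf [1, 5, 1, 5, 4, 5, 0, 5, 0, 4] true))) (.node (.node (.node (.leaf [6, 2, 6, 2] true) (.leaf [0, 4, 0, 3, 4, 0, 4, 3, 0, 3, 4] true)) (.leaf [7, 6, 7, 6, 7, 6] true)) (.node (.leaf [5, 4, 5, 4, 5, 4, 5, 4, 5, 4, 5, 4, 5, 4, 5, 4] true) (.leaf [0, 4, 0, 5, 1, 4, 1, 4, 5, 4] true))))) (.node (.node (.node (.node (.node (.leaf [5, 5] true) (.leaf [4, 5, 0, 3, 4, 5, 0, 3, 4, 5, 0, 3, 4, 5, 0, 3, 4, 5, 0, 3] true)) (.leaf [6, 4, 6, 4] true)) (.node (.node (.leaf [4, 3, 4, 3, 4, 3] true) (.leaf [5, 0, 6, 5, 0, 5, 6, 0, 6, 5, 0] true)) (.leaf [4, 5, 4, 2, 7, 5, 4, 5, 4, 5] true))) (.node (.node (.node (.leaf [5,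 2, 5, 2] true) (.leaf [3, 0, 3, 4, 0, 4, 0, 3, 4, 0, 4] true)) (.leaf [7, 6, 7, 6, 7, 6] true)) (.node (.leaf [5, 4, 5, 4, 5, 4, 5, 4, 5, 4, 5, 4, 5, 4, 5, 4] true) (.leaf [1, 4, 5, 4, 0, 4, 0, 5, 1, 4] true)))) (.node (.node (.node (.node (.leaf [3, 2, 3, 2, 3, 2] true) (.leaf [4, 5, 0, 3, 4, 5, 0, 3, 4, 5, 0, 3, 4, 5, 0, 3, 4, 5, 0, 3] true)) (.leaf [6, 5, 6, 5, 6, 5] true)) (.node (.node (.leaf [6, 3, 6, 3] true) (.leaf [0, 1] true)) (.leaf [4, 5, 0, 5, 0, 4, 1, 5, 1, 5] true))) (.node (.node (.node (.leaf [7, 2, 7, 2] true) (.leaf [5, 0, 5, 6, 0, 6, 5, 0, 5, 0, 6] true)) (.leaf [1, 2, 7, 1] true)) (.node (.leaf [5, 4, 5, 4, 5, 4, 5, 4, 5, 4, 5, 4, 5, 4, 5, 4] true) (.leaf [4, 5, 0, 3, 4, 5, 0, 3, 4, 5, 0, 3, 4, 5, 0, 3, 4, 5, 0, 3] true)))))))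

end Cfsg.Agent.Lib.H6.ONTC
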