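import Cfsg.Agent.Lib.H6.ONTC.Steps25

set_option autoImplicit false
set_option maxRecDepth 1000000

/-! # invariant through part 25 of ON (generated) -/

namespace Cfsg.Agent.Lib.H6.ONTC

open Cfsg.Agent.Lib.H17.CosetCert Cfsg.Agent.Lib.H6.TC

theorem part25 {G Q : Type} [Group G] [MulAction G Q] (γ : ℕ → G)
    (hiv : ∀ x < 8, γ (iv x) = (γ x)⁻¹) (q0 : Q) (hw : WordsOK γ q0 words)
    (h0 : Inv F 8 γ q0 625000 173448) : Inv F 8 γ q0 650000 178254 := by
  have h1 := checkSteps_sound F iv 8 1048576 γ hiv q0 words hw steps625 625000 173448 173625 h0 chk625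
  rw [len625] at h1
  have h2 := checkSteps_sound F iv 8 1048576 γ hiv q0 words hw steps626 626000 173625 173810 h1 chk626
  rw [len626] at h2
  have h3 := checkSteps_sound F iv 8 1048576 γ hiv q0 words hw steps627 627000 173810 173977 h2 chk627
  rw [len627] at h3
  have h4 := checkSteps_sound F iv 8 1048576 γ hiv q0 words hw steps628 628000 173977 174140 h3 chk628
  rw [len628] at h4
  have h5 := checkSteps_sound F iv 8 1048576 γ hiv q0 words hw steps629 629000 174140 174353 h4 chk629
  rw [len629] at h5
  have h6 := checkSteps_sound F iv 8 1048576 γ hiv q0 words hw steps630 630000 174353 174542 h5 chk630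
  rw [len630] at h6
  have h7 := checkSteps_sound F iv 8 1048576 γ hiv q0 words hw steps631 631000 174542 174726 h6 chk631
  rw [len631] at h7
  have h8 := checkSteps_sound F iv 8 1048576 γ hiv q0 words hw steps632 632000 174726 174905 h7 chk632
  rw [len632] at h8
  have h9 := checkSteps_sound F iv 8 1048576 γ hiv q0 words hw steps633 633000 174905 175083 h8 chk633
  rw [len633] at h9
  have h10 := checkSteps_sound F iv 8 1048576 γ hiv q0 words hw steps634 634000 175083 175271 h9 chk634
  rw [len634] at h10
  have h11 := checkSteps_sound F iv 8 1048576 γ hiv q0 words hw steps635 635000 175271 175493 h10 chk635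
  rw [len635] at h11
  have h12 := checkSteps_sound F iv 8 1048576 γ hiv q0 words hw steps636 636000 175493 175700 h11 chk636
  rw [len636] at h12
  have h13 := checkSteps_sound F iv 8 1048576 γ hiv q0 words hw steps637 637000 175700 175917 h12 chk637
  rw [len637] at h13
  have h14 := checkSteps_sound F iv 8 1048576 γ hiv q0 words hw steps638 638000 175917 176120 h13 chk638
  rw [len638] at h14
  have h15 := checkSteps_sound F iv 8 1048576 γ hiv q0 words hw steps639 639000 176120 176303 h14 chk639
  rw [len639] at h15
  have h16 := checkSteps_sound F iv 8 1048576 γ hiv q0 words hw steps640 640000 176303 176483 h15 chk640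
  rw [len640] at h16
  have h17 := checkSteps_sound F iv 8 1048576 γ hiv q0 words hw steps641 641000 176483 176692 h16 chk641
  rw [len641] at h17
  have h18 := checkSteps_sound F iv 8 1048576 γ hiv q0 words hw steps642 642000 176692 176913 h17 chk642
  rw [len642] at h18
  have h19 := checkSteps_sound F iv 8 1048576 γ hiv q0 words hw steps643 643000 176913 177124 h18 chk643
  rw [len643] at h19
  have h20 := checkSteps_sound F iv 8 1048576 γ hiv q0 words hw steps644 644000 177124 177302 h19 chk644
  rw [len644] at h20
  have h21 := checkSteps_sound F iv 8 1048576 γ hiv q0 words hw steps645 645000 177302 177478 h20 chk645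
  rw [len645] at h21
  have h22 := checkSteps_sound F iv 8 1048576 γ hiv q0 words hw steps646 646000 177478 177671 h21 chk646
  rw [len646] at h22
  have h23 := checkSteps_sound F iv 8 1048576 γ hiv q0 words hw steps647 647000 177671 177870 h22 chk647
  rw [len647] at h23
  have h24 := checkSteps_sound F iv 8 1048576 γ hiv q0 words hw steps648 648000 177870 178069 h23 chk648
  rw [len648] at h24
  have h25 := checkSteps_sound F iv 8 1048576 γ hiv q0 words hw steps649 649000 178069 178254 h24 chk649
  rw [len649] at h25
  exact h25

end Cfsg.Agent.Lib.H6.ONTC
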